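import Mathlib
import Groth.Prelude.Def_EtMil
import Groth.Agent.H87.Mil2
import Groth.Agent.H87.Mil3
import Groth.Agent.H74.MilnorFin

/-!
# Pinching data give Milnor squares

`R → R'` surjective with kernel `I`, `R → S` with `ker ∩ I = 0` and `I S = image of I`.  Then
`(R, R', S, S / I S)` is an `EtMil.IsFibreSquare`, and flatness / finiteness / vanishing of an
`R`-module descends from `R' ⊗ M` and `S ⊗ M` (using helper87's and helper74's Milnor libraries).
-/

set_option autoImplicit false
universe u
open TensorProduct Function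

namespace Groth.Agent.H71.Pinch

variable (R R' S : Type u) [CommRing R] [CommRing R'] [CommRing S] [Algebra R R'] [Algebra R S]

/-- the fourth corner `S / I S` -/
abbrev Corner : Type u := S ⧸ Ideal.map (algebraMap R S) (RingHom.ker (algebraMap R R'))

variable {R R' S}

/-- `R' → S / I S` -/
noncomputable def cornerHom (hsurj : Surjective (algebraMap R R')) : R' →+* Corner R R' S :=
  RingHom.liftOfSurjective (algebraMap R R') hsurj
    ⟨(Ideal.Quotient.mk _).comp (algebraMap R S), by
      intro x hx
      rw [RingHom.mem_ker, RingHom.comp_apply, Ideal.Quotient.eq_zero_iff_mem]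
      exact Ideal.mem_map_of_mem _ hx⟩

theorem cornerHom_algebraMap (hsurj : Surjective (algebraMap R R')) (r : R) :
    cornerHom (S := S) hsurj (algebraMap R R' r) =
      Ideal.Quotient.mk _ (algebraMap R S r) :=
  RingHom.liftOfSurjective_comp_apply _ hsurj _ r

section
variable (hsurj : Surjective (algebraMap R R'))
  (h1 : RingHom.ker (algebraMap R S) ⊓ RingHom.ker (algebraMap R R') = ⊥)
  (h2 : ∀ a ∈ Ideal.map (algebraMap R S) (RingHom.ker (algebraMap R R')),
    ∃ i ∈ RingHom.ker (algebraMap R R'), algebraMap R S i = a)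
include hsurj h1 h2

theorem isFibreSquare :
    letI : Algebra R' (Corner R R' S) := (cornerHom hsurj).toAlgebra
    haveI : IsScalarTower R R' (Corner R R' S) := IsScalarTower.of_algebraMap_eq (fun r => by
      rw [RingHom.algebraMap_toAlgebra, cornerHom_algebraMap]; rfl)
    EtMil.IsFibreSquare R R' S (Corner R R' S) := by
  letI : Algebra R' (Corner R R' S) := (cornerHom hsurj).toAlgebra
  haveI : IsScalarTower R R' (Corner R R' S) := IsScalarTower.of_algebraMap_eq (fun r => by
      rw [RingHom.algebraMap_toAlgebra, cornerHom_algebraMap]; rfl)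
  refine ⟨Ideal.Quotient.mk_surjective, ?_⟩
  intro b s hbs
  obtain ⟨r, rfl⟩ := hsurj b
  have hbs' : (Ideal.Quotient.mk (Ideal.map (algebraMap R S) (RingHom.ker (algebraMap R R'))))
      (algebraMap R S r) = Ideal.Quotient.mk _ s := by
    rw [← cornerHom_algebraMap hsurj]; exact hbs
  rw [Ideal.Quotient.eq] at hbs'
  obtain ⟨i, hi, his⟩ := h2 _ hbs'
  refine ⟨r - i, ⟨?_, ?_⟩, ?_⟩
  · rw [map_sub, (RingHom.mem_ker).1 hi, sub_zero]
  · rw [map_sub, his]; ring
  · rintro w ⟨hw1, hw2⟩
    have hmem : w - (r - i) ∈ RingHom.ker (algebraMap R S) ⊓ RingHom.ker (algebraMap R R') := by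
      refine ⟨?_, ?_⟩
      · show w - (r - i) ∈ RingHom.ker (algebraMap R S)
        rw [RingHom.mem_ker, map_sub, hw2, map_sub, his]; ring
      · show w - (r - i) ∈ RingHom.ker (algebraMap R R')
        rw [RingHom.mem_ker, map_sub, hw1, map_sub, (RingHom.mem_ker).1 hi]; ring
    rw [h1, Ideal.mem_bot, sub_eq_zero] at hmem
    exact hmem

variable (M : Type u) [AddCommGroup M] [Module R M]

theorem flat_of_pinch [Module.Flat R' (R' ⊗[R] M)] [Module.Flat S (S ⊗[R] M)] :
    Module.Flat R M := by
  letI : Algebra R' (Corner R R' S) := (cornerHom hsurj).toAlgebra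
  haveI : IsScalarTower R R' (Corner R R' S) := IsScalarTower.of_algebraMap_eq (fun r => by
      rw [RingHom.algebraMap_toAlgebra, cornerHom_algebraMap]; rfl)
  exact Groth.Agent.H87.Mil.flat_descent (B := R') (A' := S) (A := Corner R R' S) M
    (isFibreSquare hsurj h1 h2)

theorem finite_of_pinch [Module.Finite R' (R' ⊗[R] M)] [Module.Finite S (S ⊗[R] M)] :
    Module.Finite R M := by
  letI : Algebra R' (Corner R R' S) := (cornerHom hsurj).toAlgebra
  haveI : IsScalarTower R R' (Corner R R' S) := IsScalarTower.of_algebraMap_eq (fun r => by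
      rw [RingHom.algebraMap_toAlgebra, cornerHom_algebraMap]; rfl)
  exact Groth.Agent.H74.Milnor.finite_of_finite_tensor (B := R') (A' := S) (A := Corner R R' S)
    (isFibreSquare hsurj h1 h2) M

theorem subsingleton_of_pinch [Subsingleton (R' ⊗[R] M)] [Subsingleton (S ⊗[R] M)] :
    Subsingleton M := by
  letI : Algebra R' (Corner R R' S) := (cornerHom hsurj).toAlgebra
  haveI : IsScalarTower R R' (Corner R R' S) := IsScalarTower.of_algebraMap_eq (fun r => by
      rw [RingHom.algebraMap_toAlgebra, cornerHom_algebraMap]; rfl)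
  have hsq := isFibreSquare hsurj h1 h2
  refine ⟨fun a b => ?_⟩
  have key : ∀ l : M, l = 0 := by
    intro l
    have hl : l ∈ (RingHom.ker (algebraMap R R')) • (⊤ : Submodule R M) :=
      Groth.Agent.H74.Milnor.mem_smul_top_of_tmul_eq_zero (B := R') (A' := S)
        (A := Corner R R' S) M hsq l (Subsingleton.elim _ _)
    refine Submodule.smul_induction_on hl ?_ ?_
    · intro j hj n _
      exact Groth.Agent.H74.Milnor.smul_eq_zero_of_tmul_eq_zero (B := R') (A' := S)
        (A := Corner R R' S) M hsq n (Subsingleton.elim _ _) j ((RingHom.mem_ker).1 hj)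
    · intro x y hx hy
      rw [hx, hy, add_zero]
  rw [key a, key b]

theorem projective_of_pinch [Module.Finite R' (R' ⊗[R] M)] [Module.Projective R' (R' ⊗[R] M)]
    [Module.Finite S (S ⊗[R] M)] [Module.Projective S (S ⊗[R] M)] :
    Module.Finite R M ∧ Module.Projective R M := by
  letI : Algebra R' (Corner R R' S) := (cornerHom hsurj).toAlgebra
  haveI : IsScalarTower R R' (Corner R R' S) := IsScalarTower.of_algebraMap_eq (fun r => by
      rw [RingHom.algebraMap_toAlgebra, cornerHom_algebraMap]; rfl)
  have hsq := isFibreSquare hsurj h1 h2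
  haveI : Module.FinitePresentation R' (R' ⊗[R] M) := Module.finitePresentation_of_projective _ _
  haveI : Module.FinitePresentation S (S ⊗[R] M) := Module.finitePresentation_of_projective _ _
  haveI : Module.FinitePresentation R M :=
    Groth.Agent.H87.Mil.fp_descent (B := R') (A' := S) (A := Corner R R' S) hsq M
  haveI : Module.Flat R M := flat_of_pinch hsurj h1 h2 M
  exact ⟨inferInstance, Module.Flat.projective_of_finitePresentation⟩

end

end Groth.Agent.H71.Pinch
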