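import Groth.Agent.H71.Pinch.Alg
import Groth.Agent.H71.QCoh.PullbackProps

/-!
# Pinching squares of schemes: descent of module properties on sections over affine opens
-/

set_option autoImplicit false
universe u
open CategoryTheory AlgebraicGeometry TopologicalSpace Opposite TensorProduct Function

namespace Groth.Agent.H71.Pinch

variable {X Y Y' : Scheme.{u}} (f : X ⟶ Y) (u : Y' ⟶ Y) [IsAffineHom f] [IsClosedImmersion u]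
  (hM : ∀ V ∈ Y.affineOpens,
      RingHom.ker (f.app V).hom ⊓ RingHom.ker (u.app V).hom = ⊥ ∧
      ∀ a ∈ Ideal.map (f.app V).hom (RingHom.ker (u.app V).hom),
        ∃ i ∈ RingHom.ker (u.app V).hom, (f.app V).hom i = a)
  (G : Y.Modules) [G.IsQuasicoherent]

include hM in
theorem pinchData {V : Y.Opens} (hV : IsAffineOpen V) :
    letI : Algebra Γ(Y, V) Γ(Y', u ⁻¹ᵁ V) := (u.appLE V (u ⁻¹ᵁ V) le_rfl).hom.toAlgebra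
    letI : Algebra Γ(Y, V) Γ(X, f ⁻¹ᵁ V) := (f.appLE V (f ⁻¹ᵁ V) le_rfl).hom.toAlgebra
    Surjective (algebraMap Γ(Y, V) Γ(Y', u ⁻¹ᵁ V)) ∧
    RingHom.ker (algebraMap Γ(Y, V) Γ(X, f ⁻¹ᵁ V)) ⊓
      RingHom.ker (algebraMap Γ(Y, V) Γ(Y', u ⁻¹ᵁ V)) = ⊥ ∧
    ∀ a ∈ Ideal.map (algebraMap Γ(Y, V) Γ(X, f ⁻¹ᵁ V))
        (RingHom.ker (algebraMap Γ(Y, V) Γ(Y', u ⁻¹ᵁ V))),
      ∃ i ∈ RingHom.ker (algebraMap Γ(Y, V) Γ(Y', u ⁻¹ᵁ V)),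
        algebraMap Γ(Y, V) Γ(X, f ⁻¹ᵁ V) i = a := by
  have hu : u.appLE V (u ⁻¹ᵁ V) le_rfl = u.app V := (Scheme.Hom.app_eq_appLE u).symm
  have hf : f.appLE V (f ⁻¹ᵁ V) le_rfl = f.app V := (Scheme.Hom.app_eq_appLE f).symm
  obtain ⟨h1, h2⟩ := hM V hV
  refine ⟨?_, ?_, ?_⟩
  · change Surjective (u.appLE V (u ⁻¹ᵁ V) le_rfl).hom
    rw [hu]
    exact u.app_surjective V hV
  · change RingHom.ker (f.appLE V (f ⁻¹ᵁ V) le_rfl).hom ⊓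
      RingHom.ker (u.appLE V (u ⁻¹ᵁ V) le_rfl).hom = ⊥
    rw [hu, hf]
    exact h1
  · change ∀ a ∈ Ideal.map (f.appLE V (f ⁻¹ᵁ V) le_rfl).hom
        (RingHom.ker (u.appLE V (u ⁻¹ᵁ V) le_rfl).hom),
      ∃ i ∈ RingHom.ker (u.appLE V (u ⁻¹ᵁ V) le_rfl).hom,
        (f.appLE V (f ⁻¹ᵁ V) le_rfl).hom i = a
    rw [hu, hf]
    exact h2

include hM in
theorem flat_sections {V : Y.Opens} (hV : IsAffineOpen V)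
    (h1 : Module.Flat Γ(Y', u ⁻¹ᵁ V) Γ((Scheme.Modules.pullback u).obj G, u ⁻¹ᵁ V))
    (h2 : Module.Flat Γ(X, f ⁻¹ᵁ V) Γ((Scheme.Modules.pullback f).obj G, f ⁻¹ᵁ V)) :
    Module.Flat Γ(Y, V) Γ(G, V) := by
  letI : Algebra Γ(Y, V) Γ(Y', u ⁻¹ᵁ V) := (u.appLE V (u ⁻¹ᵁ V) le_rfl).hom.toAlgebra
  letI : Algebra Γ(Y, V) Γ(X, f ⁻¹ᵁ V) := (f.appLE V (f ⁻¹ᵁ V) le_rfl).hom.toAlgebra
  have hU' : IsAffineOpen (u ⁻¹ᵁ V) := hV.preimage u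
  have hU : IsAffineOpen (f ⁻¹ᵁ V) := hV.preimage f
  haveI : Module.Flat Γ(Y', u ⁻¹ᵁ V) (Γ(Y', u ⁻¹ᵁ V) ⊗[Γ(Y, V)] Γ(G, V)) :=
    Module.Flat.of_linearEquiv (Groth.Agent.H44.pullbackSectionsEquiv u G hU' hV le_rfl).symm
  haveI : Module.Flat Γ(X, f ⁻¹ᵁ V) (Γ(X, f ⁻¹ᵁ V) ⊗[Γ(Y, V)] Γ(G, V)) :=
    Module.Flat.of_linearEquiv (Groth.Agent.H44.pullbackSectionsEquiv f G hU hV le_rfl).symm
  obtain ⟨hsurj, k1, k2⟩ := pinchData f u hM hV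
  exact flat_of_pinch hsurj k1 k2 _

include hM in
theorem finite_sections {V : Y.Opens} (hV : IsAffineOpen V)
    (h1 : Module.Finite Γ(Y', u ⁻¹ᵁ V) Γ((Scheme.Modules.pullback u).obj G, u ⁻¹ᵁ V))
    (h2 : Module.Finite Γ(X, f ⁻¹ᵁ V) Γ((Scheme.Modules.pullback f).obj G, f ⁻¹ᵁ V)) :
    Module.Finite Γ(Y, V) Γ(G, V) := by
  letI : Algebra Γ(Y, V) Γ(Y', u ⁻¹ᵁ V) := (u.appLE V (u ⁻¹ᵁ V) le_rfl).hom.toAlgebra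
  letI : Algebra Γ(Y, V) Γ(X, f ⁻¹ᵁ V) := (f.appLE V (f ⁻¹ᵁ V) le_rfl).hom.toAlgebra
  have hU' : IsAffineOpen (u ⁻¹ᵁ V) := hV.preimage u
  have hU : IsAffineOpen (f ⁻¹ᵁ V) := hV.preimage f
  haveI : Module.Finite Γ(Y', u ⁻¹ᵁ V) (Γ(Y', u ⁻¹ᵁ V) ⊗[Γ(Y, V)] Γ(G, V)) :=
    Module.Finite.equiv (Groth.Agent.H44.pullbackSectionsEquiv u G hU' hV le_rfl)
  haveI : Module.Finite Γ(X, f ⁻¹ᵁ V) (Γ(X, f ⁻¹ᵁ V) ⊗[Γ(Y, V)] Γ(G, V)) :=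
    Module.Finite.equiv (Groth.Agent.H44.pullbackSectionsEquiv f G hU hV le_rfl)
  obtain ⟨hsurj, k1, k2⟩ := pinchData f u hM hV
  exact finite_of_pinch hsurj k1 k2 _

include hM in
theorem subsingleton_sections {V : Y.Opens} (hV : IsAffineOpen V)
    (h1 : Subsingleton Γ((Scheme.Modules.pullback u).obj G, u ⁻¹ᵁ V))
    (h2 : Subsingleton Γ((Scheme.Modules.pullback f).obj G, f ⁻¹ᵁ V)) :
    Subsingleton Γ(G, V) := by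
  letI : Algebra Γ(Y, V) Γ(Y', u ⁻¹ᵁ V) := (u.appLE V (u ⁻¹ᵁ V) le_rfl).hom.toAlgebra
  letI : Algebra Γ(Y, V) Γ(X, f ⁻¹ᵁ V) := (f.appLE V (f ⁻¹ᵁ V) le_rfl).hom.toAlgebra
  have hU' : IsAffineOpen (u ⁻¹ᵁ V) := hV.preimage u
  have hU : IsAffineOpen (f ⁻¹ᵁ V) := hV.preimage f
  haveI : Subsingleton (Γ(Y', u ⁻¹ᵁ V) ⊗[Γ(Y, V)] Γ(G, V)) :=
    (Groth.Agent.H44.pullbackSectionsEquiv u G hU' hV le_rfl).symm.toEquiv.subsingleton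
  haveI : Subsingleton (Γ(X, f ⁻¹ᵁ V) ⊗[Γ(Y, V)] Γ(G, V)) :=
    (Groth.Agent.H44.pullbackSectionsEquiv f G hU hV le_rfl).symm.toEquiv.subsingleton
  obtain ⟨hsurj, k1, k2⟩ := pinchData f u hM hV
  exact subsingleton_of_pinch hsurj k1 k2 _

include hM in
theorem projective_sections {V : Y.Opens} (hV : IsAffineOpen V)
    (h1 : Module.Finite Γ(Y', u ⁻¹ᵁ V) Γ((Scheme.Modules.pullback u).obj G, u ⁻¹ᵁ V))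
    (h1' : Module.Projective Γ(Y', u ⁻¹ᵁ V) Γ((Scheme.Modules.pullback u).obj G, u ⁻¹ᵁ V))
    (h2 : Module.Finite Γ(X, f ⁻¹ᵁ V) Γ((Scheme.Modules.pullback f).obj G, f ⁻¹ᵁ V))
    (h2' : Module.Projective Γ(X, f ⁻¹ᵁ V) Γ((Scheme.Modules.pullback f).obj G, f ⁻¹ᵁ V)) :
    Module.Finite Γ(Y, V) Γ(G, V) ∧ Module.Projective Γ(Y, V) Γ(G, V) := by
  letI : Algebra Γ(Y, V) Γ(Y', u ⁻¹ᵁ V) := (u.appLE V (u ⁻¹ᵁ V) le_rfl).hom.toAlgebra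
  letI : Algebra Γ(Y, V) Γ(X, f ⁻¹ᵁ V) := (f.appLE V (f ⁻¹ᵁ V) le_rfl).hom.toAlgebra
  have hU' : IsAffineOpen (u ⁻¹ᵁ V) := hV.preimage u
  have hU : IsAffineOpen (f ⁻¹ᵁ V) := hV.preimage f
  haveI : Module.Finite Γ(Y', u ⁻¹ᵁ V) (Γ(Y', u ⁻¹ᵁ V) ⊗[Γ(Y, V)] Γ(G, V)) :=
    Module.Finite.equiv (Groth.Agent.H44.pullbackSectionsEquiv u G hU' hV le_rfl)
  haveI : Module.Finite Γ(X, f ⁻¹ᵁ V) (Γ(X, f ⁻¹ᵁ V) ⊗[Γ(Y, V)] Γ(G, V)) :=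
    Module.Finite.equiv (Groth.Agent.H44.pullbackSectionsEquiv f G hU hV le_rfl)
  haveI : Module.Projective Γ(Y', u ⁻¹ᵁ V) (Γ(Y', u ⁻¹ᵁ V) ⊗[Γ(Y, V)] Γ(G, V)) :=
    Module.Projective.of_equiv (Groth.Agent.H44.pullbackSectionsEquiv u G hU' hV le_rfl)
  haveI : Module.Projective Γ(X, f ⁻¹ᵁ V) (Γ(X, f ⁻¹ᵁ V) ⊗[Γ(Y, V)] Γ(G, V)) :=
    Module.Projective.of_equiv (Groth.Agent.H44.pullbackSectionsEquiv f G hU hV le_rfl)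
  obtain ⟨hsurj, k1, k2⟩ := pinchData f u hM hV
  exact projective_of_pinch hsurj k1 k2 _

end Groth.Agent.H71.Pinch
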